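import Groth.Agent.VBResLib.GGen
import Groth.Agent.VBResLib.Res
import Groth.Agent.AmpleDevLib.Devissage
import Groth.Agent.KRRRegLib.Push
import Groth.Agent.KRRRegLib.LamAlg
import Groth.Agent.LambdaSpL.PosStr
import Groth.Agent.MiscFlat6.TensorGG
import Groth.Agent.HopfIneqLib.Sections
import Groth.Agent.FlatFunLimLib.Main
import Groth.Agent.K0ResLib.Dim
import Groth.Agent.S4887
import Groth.Prelude.Def_KRR
import Mathlib.RingTheory.Polynomial.Nilpotent

/-!
# The augmentation ideal of `K(X)` is nil when `X` has an ample invertible module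
-/

set_option autoImplicit false
set_option linter.all false
set_option maxHeartbeats 1000000

universe v u

open CategoryTheory CategoryTheory.Limits AlgebraicGeometry
open LambdaRing Finset
attribute [local instance] HasDerivedCategory.standard

noncomputable section

namespace AmpleNilLib

section Alg

variable {A : Type v} [CommRing A] [LambdaOps A]

theorem nilp_gamma_add {x y : A} (hx : ∀ k, 1 ≤ k → IsNilpotent (gamma k x))
    (hy : ∀ k, 1 ≤ k → IsNilpotent (gamma k y)) : ∀ k, 1 ≤ k → IsNilpotent (gamma k (x + y)) := by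
  intro k hk
  rw [LambdaSpLib.gamma_add]
  refine isNilpotent_sum fun i hi => ?_
  rcases Nat.eq_zero_or_pos i with rfl | hi'
  · exact (Commute.all _ _).isNilpotent_mul_left (hy (k - 0) (by omega))
  · exact (Commute.all _ _).isNilpotent_mul_right (hx i hi')

/-- A class whose `γ`-operations are bounded and which has a bounded inverse up to nilpotents is nilpotent. -/
theorem nilp_of_gamma {x y : A} {a b : ℕ} (hx : ∀ k, a < k → gamma k x = 0) (hy : ∀ k, b < k → gamma k y = 0)
    (hz : ∀ k, 1 ≤ k → IsNilpotent (gamma k (x + y))) : IsNilpotent x := by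
  classical
  let G : A → ℕ → Polynomial A := fun z d => ∑ i ∈ range (d + 1), Polynomial.monomial i (gamma i z)
  have hG : ∀ z d, (∀ k, d < k → gamma k z = 0) → ∀ i, (G z d).coeff i = gamma i z := by
    intro z d hd i
    simp only [G, Polynomial.finsetSum_coeff, Polynomial.coeff_monomial, sum_ite_eq', mem_range]
    split
    · rfl
    · exact (hd i (by omega)).symm
  have hmul : ∀ n, (G x a * G y b).coeff n = gamma n (x + y) := by
    intro n
    rw [Polynomial.coeff_mul, Finset.Nat.sum_antidiagonal_eq_sum_range_succ_mk, LambdaSpLib.gamma_add]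
    exact sum_congr rfl fun i _ => by rw [hG x a hx, hG y b hy]
  have hu : IsUnit (G x a * G y b) := Polynomial.isUnit_iff_coeff_isUnit_isNilpotent.2
    ⟨by rw [hmul, LambdaSpLib.gamma_zero]; exact isUnit_one,
      fun i hi => by rw [hmul]; exact hz i (by omega)⟩
  have h := (Polynomial.isUnit_iff_coeff_isUnit_isNilpotent.1 (isUnit_of_mul_isUnit_left hu)).2 1 one_ne_zero
  rwa [hG x a hx, LambdaSpLib.gamma_one] at h

end Alg

variable {X : Scheme.{u}}

/-- The kernel of an epimorphism of bundles is a bundle. -/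
theorem vb_kernel {E F : X.Modules} (hE : FlatMod.IsFinLocFree E) (hF : FlatMod.IsFinLocFree F) (q : E ⟶ F) [Epi q] :
    FlatMod.IsFinLocFree (kernel q) := by
  haveI hEq : Coh.IsQCoh E := (VBResLib.isCoh_of_vb hE).1
  haveI hFq : Coh.IsQCoh F := (VBResLib.isCoh_of_vb hF).1
  haveI : Coh.IsQCoh (kernel q) := QCohLib.isQCoh_kernel q
  have hEp := (MiscFlat6.isFP_and_free_iff.2 hE).1
  have hFp := (MiscFlat6.isFP_and_free_iff.2 hF).1
  have hK := Groth.Agent.S4887.result (𝟙 X) E F hEp hFp (KRRRegLib.isFlatOver_of_vb (𝟙 X) hF) q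
  have hKc : Coh.IsCoh (kernel q) := ⟨inferInstance, FlatFunLimLib.isFT_of_isFP' hK⟩
  refine MiscFlat6.isFP_and_free_iff.1 ⟨hK, fun x => ?_⟩
  exact VBResLib.free_of_pdAt_zero hKc
    (VBResLib.PdAt.ker (K0ResLib.kerSeq_shortExact q) (d := 1) (VBResLib.pdAt_of_vb hE x 0) (VBResLib.pdAt_of_vb hF x 1))

variable [ConnectedSpace X] {K : Type v} [CommRing K] [LambdaOps K] {P : PosStructure K} {φ : SGA6.Kvb X →+ K}
  (hK : KRR.IsModel X K P φ)

theorem vbP_closed : (KRR.vbP X).IsClosedUnderIsomorphisms :=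
  ⟨fun e h => Groth.Agent.PerfLib.isFinLocFree_of_iso e h⟩

theorem isZero_freeMod_zero : IsZero (FlatMod.freeMod X 0) :=
  (IsZero.iff_id_eq_zero _).2 (Sigma.hom_ext _ _ fun i => i.elim0)

theorem vb_freeMod (m : ℕ) : FlatMod.IsFinLocFree (FlatMod.freeMod X m) :=
  VBResLib.vb_of_rank (VBResLib.rank_freeMod m)

theorem vbP_zero : (KRR.vbP X).ContainsZero := ⟨⟨_, isZero_freeMod_zero, vb_freeMod 0⟩⟩

theorem vb_structure : FlatMod.IsFinLocFree (Coh.structureModule X) :=
  AmpleDevLib.isFinLocFree_of_isInvertible CurvLib.isInvertible_structureModule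

include hK in
theorem cl_free (m : ℕ) : φ (KRR.cl X (FlatMod.freeMod X m)) = m := by
  haveI := vbP_closed (X := X)
  haveI := vbP_zero (X := X)
  induction m with
  | zero =>
    refine (congrArg φ (Groth.Agent.KHeartLib.clSub_eq_zero (KRR.vbP X) (vb_freeMod 0) isZero_freeMod_zero)).trans ?_
    rw [map_zero, Nat.cast_zero]
  | succ m ih =>
    have hb : FlatMod.IsFinLocFree (Coh.structureModule X ⊞ FlatMod.freeMod X m) :=
      (KRR.vbP X).prop_of_iso (CurvLib.freeModSucc X m) (vb_freeMod (m + 1))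
    refine (congrArg φ ((Groth.Agent.KHeartLib.clSub_congr (KRR.vbP X) (CurvLib.freeModSucc X m)).trans
      (Groth.Agent.KHeartLib.clSub_add (KRR.vbP X) _ (K0ResLib.biprodSeq_shortExact (Coh.structureModule X) (FlatMod.freeMod X m))
        vb_structure hb (vb_freeMod m)))).trans ?_
    rw [map_add]
    exact (congrArg₂ (· + ·) hK.map_one ih).trans (by push_cast; ring)

include hK in
/-- A globally generated bundle minus its rank is nilpotent. -/
theorem nilp_of_gg [CompactSpace X] {F : X.Modules} {r : ℕ} (hr : 1 ≤ r) (hF : FlatMod.IsFinLocFreeOfRank r F)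
    (hg : Curv2.IsGloballyGenerated F) : IsNilpotent (φ (KRR.cl X F) - (r : K)) := by
  haveI := vbP_closed (X := X)
  haveI := vbP_zero (X := X)
  have hFv := VBResLib.vb_of_rank hF
  obtain ⟨m, q₀, hq₀⟩ := VBResLib.exists_epi_free_of_gg (VBResLib.isCoh_of_vb hFv) hg
  obtain ⟨q, hq⟩ : ∃ q : FlatMod.freeMod X (m + (r + 1)) ⟶ F, Epi q := by
    suffices h : ∀ j, ∃ q : FlatMod.freeMod X (m + j) ⟶ F, Epi q from h _
    intro j
    induction j with
    | zero => exact ⟨q₀, hq₀⟩
    | succ j ih =>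
      obtain ⟨q, hq⟩ := ih
      refine ⟨(CurvLib.freeModSucc X (m + j)).hom ≫ biprod.desc 0 q, ?_⟩
      haveI : Epi (biprod.desc (0 : Coh.structureModule X ⟶ F) q) :=
        epi_of_epi_fac (f := (biprod.inr : FlatMod.freeMod X (m + j) ⟶ _)) (biprod.inr_desc _ _)
      exact epi_comp _ _
  generalize hMdef : m + (r + 1) = M at q hq
  haveI := hq
  have hk : FlatMod.IsFinLocFree (kernel q) := vb_kernel (vb_freeMod M) hFv q
  obtain ⟨a, ha⟩ := VBResLib.exists_rank hk
  have h1 : φ (KRR.cl X (kernel q)) + φ (KRR.cl X F) = M := by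
    rw [← cl_free hK M, ← map_add]
    exact congrArg φ (Groth.Agent.KHeartLib.clSub_add (KRR.vbP X) _ (K0ResLib.kerSeq_shortExact q) hk (vb_freeMod M) hFv).symm
  have haug : (a : ℤ) + r = M := by
    have h := congrArg P.aug h1
    rwa [map_add, hK.aug_cl a _ ha, hK.aug_cl r F hF, map_natCast] at h
  have hpos : ∀ {d : ℕ} {E : X.Modules}, 1 ≤ d → FlatMod.IsFinLocFreeOfRank d E →
      ∀ k, d < k → gamma k (φ (KRR.cl X E) - (d : K)) = 0 := fun {d E} hd hE k hk =>
    LambdaSpLib.gamma_sub_rank_eq_zero (LambdaSpLib.lam_one_arg P)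
      (fun i hi => P.lam_eq_zero _ ((hK.mem_pos_iff _).2 ⟨d, E, hd, hE, rfl⟩) i
        (by rw [hK.aug_cl d E hE]; omega)) hk
  refine nilp_of_gamma (hpos hr hF) (hpos (by omega) ha) fun k hk => ?_
  have e : φ (KRR.cl X F) - (r : K) + (φ (KRR.cl X (kernel q)) - (a : K)) = 0 := by
    have hMK : ((M : ℕ) : K) = a + r := by
      have h := congrArg (fun t : ℤ => (t : K)) haug
      push_cast at h
      exact h.symm
    linear_combination h1 + hMK
  rw [e, LambdaSpLib.gamma_zero_arg k hk]
  exact IsNilpotent.zero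

include hK in
/-- **The augmentation ideal is nil.** -/
theorem isNilpotent_of_aug_eq_zero {L : X.Modules} (hL : CohB1.IsAmple L) {x : K} (hx : P.aug x = 0) :
    IsNilpotent x := by
  haveI : CompactSpace X := hL.2.1
  haveI := vbP_closed (X := X)
  haveI := vbP_zero (X := X)
  have hLr : FlatMod.IsFinLocFreeOfRank 1 L := (CohCmpLib.invertible_iff_rank_one _).1 hL.1
  have hLn : ∀ n, FlatMod.IsFinLocFreeOfRank 1 (CohB1.tensorPow L n) := fun n =>
    (CohCmpLib.invertible_iff_rank_one _).1 (AmpleThLib.tensorPow_isInvertible hL.1 n)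
  obtain ⟨_, _, he, hf, hx'⟩ := P.exists_sub x
  obtain ⟨r, E, hr, hE, rfl⟩ := (hK.mem_pos_iff _).1 he
  obtain ⟨s, F, hs, hF, rfl⟩ := (hK.mem_pos_iff _).1 hf
  subst hx'
  obtain rfl : r = s := by
    rw [map_sub, hK.aug_cl r E hE, hK.aug_cl s F hF, sub_eq_zero] at hx
    exact_mod_cast hx
  have hO : FlatMod.IsFinLocFreeOfRank 1 (Coh.structureModule X) :=
    (CohCmpLib.invertible_iff_rank_one _).1 CurvLib.isInvertible_structureModule
  obtain ⟨n₁, h₁⟩ := MiscFlat6.eventually_gg_of_isAmple hL (Coh.structureModule X) (VBResLib.isCoh_of_vb vb_structure)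
  obtain ⟨n₂, h₂⟩ := MiscFlat6.eventually_gg_of_isAmple hL E (VBResLib.isCoh_of_vb (VBResLib.vb_of_rank hE))
  obtain ⟨n₃, h₃⟩ := MiscFlat6.eventually_gg_of_isAmple hL F (VBResLib.isCoh_of_vb (VBResLib.vb_of_rank hF))
  let n := max n₁ (max n₂ n₃)
  let t := φ (KRR.cl X (CohB1.tensorPow L n))
  have key : ∀ {d : ℕ} {G : X.Modules}, 1 ≤ d → FlatMod.IsFinLocFreeOfRank d G →
      Curv2.IsGloballyGenerated (CohB1.tensorMod G (CohB1.tensorPow L n)) →
      IsNilpotent (φ (KRR.cl X G) * t - (d : K)) := by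
    intro d G hd hG hg
    have hr' := HopfIneqLib.locFree_tensor hG (hLn n)
    rw [mul_one] at hr'
    rw [hK.map_mul G _ (VBResLib.vb_of_rank hG) (VBResLib.vb_of_rank (hLn n))]
    exact nilp_of_gg hK hd hr' hg
  have ht : IsNilpotent (t - 1) := by
    have h := key le_rfl hO (h₁ n (le_max_left _ _))
    rwa [hK.map_one, one_mul, Nat.cast_one] at h
  obtain ⟨u, hu⟩ : IsUnit t := by
    have := ht.isUnit_one_add
    rwa [add_sub_cancel] at this
  have hE' := key hr hE (h₂ n ((le_max_left _ _).trans (le_max_right _ _)))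
  have hF' := key hr hF (h₃ n ((le_max_right _ _).trans (le_max_right _ _)))
  have hdiff := (Commute.all _ _).isNilpotent_sub hE' hF'
  have e : φ (KRR.cl X E) - φ (KRR.cl X F) =
      (↑u⁻¹ : K) * ((φ (KRR.cl X E) * t - (r : K)) - (φ (KRR.cl X F) * t - (r : K))) := by
    rw [sub_sub_sub_cancel_right, ← sub_mul, mul_comm, mul_assoc, ← hu, Units.mul_inv, mul_one]
  rw [e]
  exact (Commute.all _ _).isNilpotent_mul_left hdiff

end AmpleNilLib

end
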